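import Groth.Agent.ClopenFFLib.Normal
import Groth.Agent.ProperConnLib.Core
import Groth.Agent.PurityGlueLib.HtpDepth

/-! # Restriction of covers to a dense open with regular complement -/

set_option autoImplicit false
set_option linter.style.haveILetI false
set_option maxHeartbeats 1000000
set_option backward.isDefEq.respectTransparency false
set_option backward.isDefEq.respectTransparency.types false

universe u

open CategoryTheory CategoryTheory.Limits AlgebraicGeometry

noncomputable section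

namespace FEtExt

/-- A dense open whose complement consists of regular points. -/
def DenseReg {X : Scheme.{u}} (U : X.Opens) : Prop :=
  Dense (U : Set X) ∧ ∀ x : X, x ∉ U → IsRegularLocalRing (X.presheaf.stalk x)

variable {X : Scheme.{u}} [IsLocallyNoetherian X] {U : X.Opens}

theorem DenseReg.preimage {T : Scheme.{u}} (hU : DenseReg U) (g : T ⟶ X) [Etale g] : DenseReg (g ⁻¹ᵁ U) :=
  ⟨hU.1.preimage g.isOpenMap, fun t ht => (PurityGlueLib.stalk_etale g t).1 (hU.2 _ ht)⟩

theorem DenseReg.exists_specializes (hU : DenseReg U) (x : X) : ∃ z ∈ U, z ⤳ x :=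
  ProperConnLib.exists_specializes_of_mem_closure_open U.isOpen (hU.1 x)

/-- Restriction to such an open is bijective on clopen subsets of covers. -/
theorem clopenBij (hU : DenseReg U) : ClopenFFLib.ClopenBij U.ι := fun A C' => by
  let a : A.left ⟶ X := A.hom
  haveI : IsFinite a := A.prop.1
  haveI : Etale a := A.prop.2
  haveI : IsLocallyNoetherian A.left := LocallyOfFiniteType.isLocallyNoetherian a
  let e : pullback a U.ι ⟶ A.left := pullback.fst a U.ι
  haveI : IsOpenImmersion e := MorphismProperty.pullback_fst _ _ inferInstance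
  have hV := hU.preimage a
  have hr : Set.range e = ((a ⁻¹ᵁ U : A.left.Opens) : Set A.left) := by
    rw [Scheme.Pullback.range_fst, Scheme.Opens.range_ι]; rfl
  let C₁ : Set A.left := e '' C'
  let C₂ : Set A.left := e '' (C' : Set _)ᶜ
  have ho₁ : IsOpen C₁ := e.isOpenMap _ C'.isClopen.2
  have ho₂ : IsOpen C₂ := e.isOpenMap _ C'.isClopen.compl.2
  have hun : C₁ ∪ C₂ = ((a ⁻¹ᵁ U : A.left.Opens) : Set A.left) := by
    rw [← hr, ← Set.image_union, Set.union_compl_self, Set.image_univ]
  have hdis : Disjoint C₁ C₂ := Set.disjoint_image_of_injective e.isOpenEmbedding.injective disjoint_compl_right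
  have key : ∀ y, y ∈ closure C₁ → y ∈ closure C₂ → False := fun y h₁ h₂ => by
    obtain ⟨z₁, hz₁, hy₁⟩ := ProperConnLib.exists_specializes_of_mem_closure_open ho₁ h₁
    obtain ⟨z₂, hz₂, hy₂⟩ := ProperConnLib.exists_specializes_of_mem_closure_open ho₂ h₂
    by_cases hy : y ∈ a ⁻¹ᵁ U
    · rcases (hun.ge hy : y ∈ C₁ ∪ C₂) with h | h
      · obtain ⟨t, ht, ht'⟩ := mem_closure_iff.1 h₂ C₁ ho₁ h
        exact Set.disjoint_left.1 hdis ht ht'
      · obtain ⟨t, ht, ht'⟩ := mem_closure_iff.1 h₁ C₂ ho₂ h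
        exact Set.disjoint_left.1 hdis ht' ht
    · haveI := hV.2 y hy
      haveI : IsDomain (A.left.presheaf.stalk y) := CommAlgDim.isDomain_of_isRegularLocalRing _
      let η := A.left.fromSpecStalk y (⟨⊥, Ideal.isPrime_bot⟩ : PrimeSpectrum (A.left.presheaf.stalk y))
      have hgen : ∀ z, z ⤳ y → η ⤳ z := fun z hz => by
        obtain ⟨a, rfl⟩ : z ∈ Set.range (A.left.fromSpecStalk y) := by
          rw [Scheme.range_fromSpecStalk]; exact hz
        exact (((PrimeSpectrum.le_iff_specializes (⟨⊥, Ideal.isPrime_bot⟩ : PrimeSpectrum (A.left.presheaf.stalk y))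
          a).mp bot_le)).map (A.left.fromSpecStalk y).continuous
      exact Set.disjoint_left.1 hdis ((hgen z₁ hy₁).mem_open ho₁ hz₁) ((hgen z₂ hy₂).mem_open ho₂ hz₂)
  have hcl : closure C₁ ∪ closure C₂ = Set.univ := by
    rw [← closure_union, hun]
    exact hV.1.closure_eq
  have hclop : IsClopen (closure C₁) := by
    refine ⟨isClosed_closure, ?_⟩
    rw [show closure C₁ = (closure C₂)ᶜ from Set.ext fun y => ⟨fun h h' => key y h h', fun h =>
      (hcl.ge (Set.mem_univ y)).resolve_right h⟩]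
    exact isClosed_closure.isOpen_compl
  refine ⟨⟨closure C₁, hclop⟩, ?_, fun D hD => ?_⟩
  · ext p
    refine ⟨fun hp => ?_, fun hp => subset_closure ⟨p, hp, rfl⟩⟩
    by_contra hc
    exact key _ hp (subset_closure ⟨p, hc, rfl⟩)
  · refine TopologicalSpace.Clopens.ext (Set.Subset.antisymm ?_ ?_)
    · intro y hy
      refine (hcl.ge (Set.mem_univ y)).resolve_right fun h₂ => ?_
      obtain ⟨t, htD, p, hp, rfl⟩ := mem_closure_iff.1 h₂ D D.isClopen.2 hy
      exact hp (hD.le htD)
    · exact closure_minimal (by rintro _ ⟨p, hp, rfl⟩; exact hD.ge hp) D.isClopen.1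

theorem full_faithful (hU : DenseReg U) : (FEt.restrict U.ι).Full ∧ (FEt.restrict U.ι).Faithful :=
  ClopenFFLib.full_faithful _ (clopenBij hU)

/-- Morphisms to covers extend uniquely from such an open. -/
theorem existsUnique_hom {X' Y' : Scheme.{u}} (q : Y' ⟶ X') [IsFinite q] [Etale q] (hU : DenseReg U) (p : X ⟶ X')
    (g : (U : Scheme.{u}) ⟶ Y') (hg : g ≫ q = U.ι ≫ p) :
    ∃! G : X ⟶ Y', U.ι ≫ G = g ∧ G ≫ q = p := by
  obtain ⟨hfull, hfaith⟩ := full_faithful hU
  let O : FEt.Cat X := MorphismProperty.Over.mk ⊤ (𝟙 X) ⟨inferInstance, inferInstance⟩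
  let B : FEt.Cat X := MorphismProperty.Over.mk ⊤ (pullback.snd q p)
    ⟨MorphismProperty.pullback_snd _ _ ‹IsFinite q›, MorphismProperty.pullback_snd _ _ ‹Etale q›⟩
  let σ : (U : Scheme.{u}) ⟶ pullback (𝟙 X) U.ι := pullback.lift U.ι (𝟙 _) (by simp)
  have hc : pullback.fst (𝟙 X) U.ι = pullback.snd (𝟙 X) U.ι ≫ U.ι := by simpa using pullback.condition (f := 𝟙 X) (g := U.ι)
  let l : pullback (𝟙 X) U.ι ⟶ pullback q p := pullback.lift (pullback.snd (𝟙 X) U.ι ≫ g) (pullback.fst (𝟙 X) U.ι)
    (by rw [Category.assoc, hg, hc, Category.assoc])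
  let m : pullback (𝟙 X) U.ι ⟶ pullback (pullback.snd q p) U.ι :=
    pullback.lift l (pullback.snd (𝟙 X) U.ι) (by rw [pullback.lift_snd, hc])
  let ψ : (FEt.restrict U.ι).obj O ⟶ (FEt.restrict U.ι).obj B :=
    MorphismProperty.Over.homMk m (pullback.lift_snd _ _ _)
  obtain ⟨G₀, hG₀⟩ := hfull.map_surjective ψ
  have hG₀s : G₀.left ≫ pullback.snd q p = 𝟙 X := MorphismProperty.Over.w G₀
  have hψ : U.ι ≫ G₀.left = pullback.lift g U.ι hg := by
    have h0 : m ≫ pullback.fst (pullback.snd q p) U.ι = pullback.fst (𝟙 X) U.ι ≫ G₀.left :=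
      (congrArg (fun t : (FEt.restrict U.ι).obj O ⟶ (FEt.restrict U.ι).obj B => t.left ≫ pullback.fst _ _) hG₀.symm).trans
        (pullback.lift_fst _ _ _)
    have h1 := congrArg (σ ≫ ·) h0
    simp only [σ, m, pullback.lift_fst, pullback.lift_fst_assoc] at h1
    refine h1.symm.trans ?_
    apply pullback.hom_ext <;> simp [l]
    exact Category.id_comp g
  refine ⟨G₀.left ≫ pullback.fst q p, ⟨by rw [← Category.assoc, hψ, pullback.lift_fst],
    by rw [Category.assoc, pullback.condition, reassoc_of% hG₀s]; exact Category.id_comp p⟩, fun G ⟨hG, hGq⟩ => ?_⟩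
  let G' : O ⟶ B := MorphismProperty.Over.homMk (pullback.lift G (𝟙 X) (hGq.trans (Category.id_comp p).symm))
    (pullback.lift_snd _ _ _)
  have e : G' = G₀ := hfaith.map_injective (MorphismProperty.Over.Hom.ext (by
    apply pullback.hom_ext
    · refine (pullback.lift_fst _ _ _).trans (Eq.trans ?_ (pullback.lift_fst _ _ _).symm)
      show pullback.fst (𝟙 X) U.ι ≫ pullback.lift G (𝟙 X) _ = pullback.fst (𝟙 X) U.ι ≫ G₀.left
      rw [hc, Category.assoc, Category.assoc, hψ]
      congr 1
      apply pullback.hom_ext <;> simp [hG]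
    · exact (pullback.lift_snd _ _ _).trans (pullback.lift_snd _ _ _).symm))
  rw [← e]
  exact (pullback.lift_fst _ _ _).symm

end FEtExt

end
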