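import Groth.Agent.FEtExtLib.Regular
import Groth.Agent.S0289

/-! # Equivalences between categories of covers with the same image -/

set_option autoImplicit false
set_option linter.style.haveILetI false
set_option backward.isDefEq.respectTransparency false
set_option backward.isDefEq.respectTransparency.types false

universe u v₁ v₂ v₃ w₁ w₂ w₃

open CategoryTheory CategoryTheory.Limits AlgebraicGeometry

noncomputable section

namespace FEtExt

/-- Fully faithful functors with the same essential image have equivalent sources. -/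
theorem exists_equiv_of_essImage {A : Type w₁} [Category.{v₁} A] {B : Type w₂} [Category.{v₂} B] {C : Type w₃}
    [Category.{v₃} C] (F : A ⥤ C) (G : B ⥤ C) [F.Full] [F.Faithful] [G.Full] [G.Faithful]
    (h₁ : ∀ a, G.essImage (F.obj a)) (h₂ : ∀ b, F.essImage (G.obj b)) :
    ∃ Φ : A ≌ B, Nonempty (F ≅ Φ.functor ⋙ G) := by
  let L : A ⥤ G.essImage.FullSubcategory := ObjectProperty.lift _ F h₁
  haveI : L.Faithful := inferInstance
  haveI : L.Full := inferInstance
  haveI : L.EssSurj := ⟨fun c => by
    obtain ⟨b, ⟨e⟩⟩ := c.property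
    obtain ⟨a, ⟨e'⟩⟩ := h₂ b
    exact ⟨a, ⟨(ObjectProperty.fullyFaithfulι _).preimageIso (e' ≪≫ e)⟩⟩⟩
  haveI : L.IsEquivalence := { }
  haveI : G.toEssImage.IsEquivalence := { }
  refine ⟨L.asEquivalence.trans G.toEssImage.asEquivalence.symm, ⟨?_⟩⟩
  exact (ObjectProperty.liftCompιIso G.essImage F h₁).symm ≪≫
    Functor.isoWhiskerRight ((L.rightUnitor).symm ≪≫ Functor.isoWhiskerLeft L G.toEssImage.asEquivalence.counitIso.symm ≪≫
      (Functor.associator _ _ _).symm) _ ≪≫ Functor.associator _ _ _ ≪≫ Functor.isoWhiskerLeft _ G.toEssImageCompι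

theorem restrict_comp_full_faithful {X Y W : Scheme.{u}} {a : W ⟶ Y} {b : Y ⟶ X} {c : W ⟶ X} (h : a ≫ b = c)
    [(FEt.restrict a).Full] [(FEt.restrict a).Faithful] (hc : (FEt.restrict c).Full ∧ (FEt.restrict c).Faithful) :
    (FEt.restrict b).Full ∧ (FEt.restrict b).Faithful := by
  obtain ⟨hf, hi⟩ := hc
  haveI : (FEt.restrict b ⋙ FEt.restrict a).Faithful := Functor.Faithful.of_iso (restrictCompIso h).symm
  haveI : (FEt.restrict b ⋙ FEt.restrict a).Full := Functor.Full.of_iso (restrictCompIso h).symm
  exact ⟨Functor.Full.of_comp_faithful (FEt.restrict b) (FEt.restrict a), Functor.Faithful.of_comp (FEt.restrict b) (FEt.restrict a)⟩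

end FEtExt

end
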