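import Groth.Agent.PurityGlueLib.Step

/-!
# Extending a finite étale cover over one more point where it extends locally
-/

set_option autoImplicit false
universe u

open CategoryTheory AlgebraicGeometry DescFP TopologicalSpace PurityGlueLib
open CategoryTheory.Limits hiding diag
open Pi1

noncomputable section

namespace FEtExt

variable {X : Scheme.{u}} [AlgebraicGeometry.IsNoetherian X]

theorem exists_step (V : X.Opens) {E : Scheme.{u}} (q : E ⟶ (V : Scheme.{u})) (hq : FEt.prop q) (x : X)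
    (hxV : x ∉ V) (hx : ∀ y : X, y ∉ V → y ⤳ x → y = x)
    (h : ∀ ψ : (FEt.puncturedSpec (X.presheaf.stalk x) : Scheme.{u}) ⟶ (V : Scheme.{u}),
      ψ ≫ V.ι = (FEt.puncturedSpec (X.presheaf.stalk x)).ι ≫ X.fromSpecStalk x →
      ∃ Y' : FEt.Cat (Spec (X.presheaf.stalk x)),
        Nonempty ((FEt.restrict (FEt.puncturedSpec (X.presheaf.stalk x)).ι).obj Y' ≅
          (FEt.restrict ψ).obj (MorphismProperty.Over.mk ⊤ q hq))) :
    ∃ (V' : X.Opens) (hle : V ≤ V'), x ∈ V' ∧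
      ∃ (E' : Scheme.{u}) (q' : E' ⟶ (V' : Scheme.{u})) (i : E ⟶ E'),
        FEt.prop q' ∧ IsPullback i q q' (X.homOfLE hle) := by
  haveI := hq.1
  haveI := hq.2
  let S := X.presheaf.stalk x
  let φ : (cone X x).pt ⟶ X := X.fromSpecStalk x
  let P : ((cone X x).pt).Opens := FEt.puncturedSpec S
  have hP : φ ⁻¹ᵁ V = P := by
    ext z
    constructor
    · rintro hz (rfl : z = IsLocalRing.closedPoint S)
      exact hxV (Scheme.fromSpecStalk_closedPoint (X := X) (x := x) ▸ hz)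
    · intro hz
      by_contra hzV
      have hzx : φ z ⤳ x := by
        have : φ z ∈ Set.range (X.fromSpecStalk x) := ⟨z, rfl⟩
        rw [Scheme.range_fromSpecStalk] at this
        exact this
      refine hz ((X.fromSpecStalk x).isEmbedding.injective ?_)
      rw [show (X.fromSpecStalk x) z = x from hx _ hzV hzx]
      exact (Scheme.fromSpecStalk_closedPoint (X := X) (x := x)).symm
  let ψ : (P : Scheme.{u}) ⟶ (V : Scheme.{u}) := φ.resLE V P hP.ge
  have hψ : ψ ≫ V.ι = P.ι ≫ φ := Scheme.Hom.resLE_comp_ι _ _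
  let Y₀ : FEt.Cat (P : Scheme.{u}) := (FEt.restrict ψ).obj (MorphismProperty.Over.mk ⊤ q hq)
  obtain ⟨Y'', ⟨e'⟩⟩ := h ψ hψ
  let Y' : FEt.Cat (cone X x).pt := Y''
  let e : (FEt.restrict P.ι).obj Y' ≅ Y₀ := e'
  let fY : Y'.left ⟶ (cone X x).pt := Y'.hom
  let γ₀ : pullback Y'.hom P.ι ≅ pullback q ψ := (MorphismProperty.Over.forget _ _ _ ⋙ Over.forget _).mapIso e
  have hγ₀ : γ₀.hom ≫ pullback.snd q ψ = pullback.snd Y'.hom P.ι := MorphismProperty.Over.w e.hom
  obtain ⟨k, M, hM⟩ := exists_model_fet (coneIsLimit X x) (f := fY) Y'.prop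
  -- the open part of the stage
  let Pk : ((PurityGlueLib.diag X x).obj k).Opens := incl k ⁻¹ᵁ V
  let ρ : (Pk : Scheme.{u}) ⟶ (V : Scheme.{u}) := (incl k).resLE V Pk le_rfl
  have hρ : IsPullback ρ Pk.ι V.ι (incl k) :=
    IsOpenImmersion.isPullback ρ Pk.ι V.ι (incl k) (Scheme.Hom.resLE_comp_ι _ _).symm (by simp [Pk])
  have hπ : (cone X x).π.app k ≫ incl k = φ := cone_π_incl k
  have hPk : (cone X x).π.app k ⁻¹ᵁ Pk = P := by
    rw [← hP, ← hπ]
    rfl
  let πP : (P : Scheme.{u}) ⟶ (Pk : Scheme.{u}) := Scheme.Hom.resLE ((cone X x).π.app k) Pk P hPk.ge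
  have hπP : IsPullback πP P.ι Pk.ι ((cone X x).π.app k) :=
    IsOpenImmersion.isPullback πP P.ι Pk.ι ((cone X x).π.app k) (Scheme.Hom.resLE_comp_ι _ _).symm (by simpa using hPk)
  have hπρ : πP ≫ ρ = ψ := by
    rw [← cancel_mono V.ι, Category.assoc, Scheme.Hom.resLE_comp_ι, ← Category.assoc, Scheme.Hom.resLE_comp_ι,
      Category.assoc, hπ, hψ]
  -- the two models
  haveI := M.lfp
  haveI : IsLocallyNoetherian ((PurityGlueLib.diag X x).obj k) :=
    LocallyOfFiniteType.isLocallyNoetherian (incl k)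
  haveI : IsLocallyNoetherian M.Z := LocallyOfFiniteType.isLocallyNoetherian M.p
  haveI := M.compactSpace
  haveI : AlgebraicGeometry.IsNoetherian M.Z := ⟨⟩
  let w : pullback Y'.hom P.ι ⟶ Y'.left := pullback.fst Y'.hom P.ι
  have hw : w.opensRange = M.g ⁻¹ᵁ (M.p ⁻¹ᵁ Pk) := by
    refine SetLike.coe_injective ?_
    show Set.range w = M.g ⁻¹' (M.p ⁻¹' (Pk : Set _))
    have hc : ∀ t, M.p (M.g t) = (cone X x).π.app k (Y'.hom t) := fun t => by
      rw [← Scheme.Hom.comp_apply, M.sq.w, Scheme.Hom.comp_apply]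
    rw [show Set.range w = _ from Scheme.Pullback.range_fst Y'.hom P.ι, Scheme.Opens.range_ι, ← hPk]
    ext t
    show (cone X x).π.app k (Y'.hom t) ∈ Pk ↔ M.p (M.g t) ∈ Pk
    rw [hc]
  let M1 := (M.restrict (M.p ⁻¹ᵁ Pk) (NoetherianSpace.isCompact _) w hw).congr
    (show w ≫ fY = pullback.snd Y'.hom P.ι ≫ P.ι from pullback.condition)
  haveI : IsLocallyNoetherian (Pk : Scheme.{u}) := LocallyOfFiniteType.isLocallyNoetherian Pk.ι
  let N : Model (cone X x) (pullback.snd Y'.hom P.ι ≫ P.ι) k :=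
    { Z := pullback q ρ
      p := pullback.snd q ρ ≫ Pk.ι
      g := γ₀.hom ≫ pullback.lift (pullback.fst q ψ) (pullback.snd q ψ ≫ πP)
        (by rw [Category.assoc, hπρ, pullback.condition])
      lfp := inferInstance
      qc := inferInstance
      qs := inferInstance
      sq := by
        have s1 : IsPullback (pullback.lift (pullback.fst q ψ) (pullback.snd q ψ ≫ πP)
            (by rw [Category.assoc, hπρ, pullback.condition])) (pullback.snd q ψ) (pullback.snd q ρ) πP :=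
          IsPullback.of_right (by rw [pullback.lift_fst, hπρ]; exact IsPullback.of_hasPullback q ψ)
            (pullback.lift_snd _ _ _) (IsPullback.of_hasPullback q ρ)
        have s2 := (s1.paste_vert hπP)
        exact s2.of_iso γ₀.symm (Iso.refl _) (Iso.refl _) (Iso.refl _) (by simp)
          (by simp [← hγ₀]) (by simp) (by simp) }
  obtain ⟨l, a, Z, W, pM, qM, pN, qN, γ, sM, sN, hγ⟩ := exists_iso_stage (coneIsLimit X x) M1 N
  have hal : (PurityGlueLib.diag X x).map a ≫ incl k = incl l := map_incl a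
  let D := l.unop.D
  let V' : X.Opens := V ⊔ D
  let u₁ : (V : Scheme.{u}) ⟶ (V' : Scheme.{u}) := X.homOfLE le_sup_left
  have hrl : Set.range (incl l) = (D : Set X) := l.unop.aff.range_fromSpec
  let v₁ : (PurityGlueLib.diag X x).obj l ⟶ (V' : Scheme.{u}) := IsOpenImmersion.lift V'.ι (incl l) (by
    rw [Scheme.Opens.range_ι, hrl]
    exact fun y hy => Or.inr hy)
  have hv₁ : v₁ ≫ V'.ι = incl l := IsOpenImmersion.lift_fac _ _ _
  haveI : IsOpenImmersion v₁ := IsOpenImmersion.of_comp v₁ V'.ι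
  haveI : IsOpenImmersion u₁ := inferInstance
  have hu₁ : u₁ ≫ V'.ι = V.ι := X.homOfLE_ι _
  have hru : ∀ y : V', y ∈ u₁.opensRange ↔ V'.ι y ∈ V := fun y => by
    constructor
    · rintro ⟨z, rfl⟩
      rw [← Scheme.Hom.comp_apply, hu₁]
      exact z.2
    · intro hy
      refine ⟨⟨V'.ι y, hy⟩, V'.ι.isEmbedding.injective ?_⟩
      rw [← Scheme.Hom.comp_apply, hu₁]
      rfl
  have hrv : ∀ y : V', y ∈ v₁.opensRange ↔ V'.ι y ∈ D := fun y => by
    constructor
    · rintro ⟨z, rfl⟩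
      rw [← Scheme.Hom.comp_apply, hv₁]
      exact hrl.le ⟨z, rfl⟩
    · intro hy
      obtain ⟨z, hz⟩ := hrl.ge hy
      exact ⟨z, V'.ι.isEmbedding.injective (by rw [← Scheme.Hom.comp_apply, hv₁, hz])⟩
  have hcov : u₁.opensRange ⊔ v₁.opensRange = ⊤ := top_le_iff.1 fun y _ => by
    rcases y.2 with hy | hy
    · exact Or.inl ((hru y).2 hy)
    · exact Or.inr ((hrv y).2 hy)
  -- the overlap
  have sA0 : IsPullback (pullback.fst q ρ) (pullback.snd q ρ ≫ Pk.ι) (q ≫ V.ι) (incl k) :=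
    (IsPullback.of_hasPullback q ρ).paste_vert hρ
  have sA : IsPullback (pN ≫ pullback.fst q ρ) qN (q ≫ V.ι) (incl l) := by
    rw [← hal]; exact sN.paste_horiz sA0
  haveI : IsOpenImmersion (incl l) := inferInstance
  haveI hoa : IsOpenImmersion (pN ≫ pullback.fst q ρ) :=
    MorphismProperty.of_isPullback sA.flip inferInstance
  let B := pullback M.p ((PurityGlueLib.diag X x).map a)
  let fB : B ⟶ (PurityGlueLib.diag X x).obj l := pullback.snd _ _
  have hb0 : (pM ≫ (M.p ⁻¹ᵁ Pk).ι) ≫ M.p = qM ≫ (PurityGlueLib.diag X x).map a := (Category.assoc _ _ _).trans sM.w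
  let b : Z ⟶ B := pullback.lift (pM ≫ (M.p ⁻¹ᵁ Pk).ι) qM hb0
  have sB : IsPullback pM b (M.p ⁻¹ᵁ Pk).ι (pullback.fst M.p ((PurityGlueLib.diag X x).map a)) := by
    refine IsPullback.of_bot ?_ (pullback.lift_fst _ _ hb0).symm (IsPullback.of_hasPullback _ _)
    rw [pullback.lift_snd]
    exact sM
  haveI : IsOpenImmersion b := MorphismProperty.of_isPullback sB (Scheme.Opens.instIsOpenImmersionι _)
  let aA : Z ⟶ E := γ.hom ≫ pN ≫ pullback.fst q ρ
  have hab : aA ≫ q ≫ u₁ = b ≫ fB ≫ v₁ := by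
    rw [← cancel_mono V'.ι]
    simp only [Category.assoc, hu₁, hv₁, aA, b, fB, pullback.lift_snd_assoc]
    rw [← hγ, Category.assoc, ← sA.w, Category.assoc]
  have hra : aA.opensRange = (q ≫ u₁) ⁻¹ᵁ v₁.opensRange := by
    refine SetLike.coe_injective ?_
    show Set.range aA = (q ≫ u₁) ⁻¹' (v₁.opensRange : Set _)
    rw [show Set.range aA = Set.range (pN ≫ pullback.fst q ρ) from by
      show Set.range ((pN ≫ pullback.fst q ρ) ∘ γ.hom) = _
      rw [Set.range_comp, Set.range_eq_univ.2 γ.hom.surjective, Set.image_univ], range_fst_eq sA, hrl]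
    ext y
    show (q ≫ V.ι) y ∈ D ↔ (q ≫ u₁) y ∈ v₁.opensRange
    refine Iff.trans ?_ (hrv _).symm
    rw [← Scheme.Hom.comp_apply, Category.assoc, hu₁]
  have hrb : b.opensRange = (fB ≫ v₁) ⁻¹ᵁ u₁.opensRange := by
    refine SetLike.coe_injective ?_
    show Set.range b = (fB ≫ v₁) ⁻¹' (u₁.opensRange : Set _)
    refine (range_snd_eq sB).trans ((congrArg _ (Scheme.Opens.range_ι (M.p ⁻¹ᵁ Pk))).trans ?_)
    ext y
    show incl k (M.p (pullback.fst M.p ((PurityGlueLib.diag X x).map a) y)) ∈ V ↔ (fB ≫ v₁) y ∈ u₁.opensRange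
    refine Iff.trans ?_ (hru _).symm
    have e₁ : pullback.fst M.p ((PurityGlueLib.diag X x).map a) ≫ M.p ≫ incl k = (fB ≫ v₁) ≫ V'.ι := by
      rw [← Category.assoc, pullback.condition, Category.assoc, hal, Category.assoc, hv₁]
    show (pullback.fst M.p ((PurityGlueLib.diag X x).map a) ≫ M.p ≫ incl k) y ∈ V ↔ ((fB ≫ v₁) ≫ V'.ι) y ∈ V
    rw [e₁]
  obtain ⟨E', q', iA, iB, hA, hB⟩ := exists_glue_over u₁ v₁ q fB hcov aA b hab hra hrb
  exact ⟨V', le_sup_left, Or.inr l.unop.mem, E', q', iA,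
    fet_of_pullback_cover u₁ v₁ q fB hcov hA hB hq (MorphismProperty.pullback_snd _ _ hM), hA⟩

end FEtExt
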