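import Groth.Agent.FEtExtLib.Dense
import Groth.Agent.FEtExtLib.Step
import Groth.Agent.PurityGlueLib.Global

/-! # Extension of covers from a dense open with regular complement -/

set_option autoImplicit false
set_option linter.style.haveILetI false
universe u

open CategoryTheory AlgebraicGeometry TopologicalSpace PurityGlueLib
open CategoryTheory.Limits hiding diag

noncomputable section

namespace FEtExt

variable {X : Scheme.{u}}

/-- The cover extends over the local ring at a point. -/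
def ExtAt (U : X.Opens) {E₀ : Scheme.{u}} (q₀ : E₀ ⟶ (U : Scheme.{u})) (hq₀ : FEt.prop q₀) (x : X) : Prop :=
  ∃ Y' : FEt.Cat (Spec (X.presheaf.stalk x)), ∀ (P : Scheme.{u}) (a : P ⟶ (U : Scheme.{u}))
    (b : P ⟶ Spec (X.presheaf.stalk x)), a ≫ U.ι = b ≫ X.fromSpecStalk x →
      Nonempty ((FEt.restrict b).obj Y' ≅ (FEt.restrict a).obj (MorphismProperty.Over.mk ⊤ q₀ hq₀))

/-- Purity or extension at the points outside an open. -/
def Hyp (U : X.Opens) {E₀ : Scheme.{u}} (q₀ : E₀ ⟶ (U : Scheme.{u})) (hq₀ : FEt.prop q₀) : Prop :=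
  ∀ x : X, x ∉ U → FEt.PurityHolds (X.presheaf.stalk x) ∨
    (ringKrullDim (X.presheaf.stalk x) ≤ 1 ∧ ExtAt U q₀ hq₀ x)

/-- Pulled back covers along equal maps. -/
def restrictCompIso {A B C : Scheme.{u}} {a : A ⟶ B} {b : B ⟶ C} {c : A ⟶ C} (h : a ≫ b = c) :
    FEt.restrict b ⋙ FEt.restrict a ≅ FEt.restrict c :=
  (MorphismProperty.Over.pullbackComp (P := FEt.prop.{u}) (Q := ⊤) a b).symm ≪≫ eqToIso (congrArg FEt.restrict h)

theorem Hyp.restrict {U : X.Opens} {E₀ : Scheme.{u}} {q₀ : E₀ ⟶ (U : Scheme.{u})} {hq₀ : FEt.prop q₀}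
    (h : Hyp U q₀ hq₀) (W : X.Opens) {E₁ : Scheme.{u}} {q₁ : E₁ ⟶ ((W.ι ⁻¹ᵁ U : (W : Scheme.{u}).Opens) : Scheme.{u})}
    {i : E₁ ⟶ E₀} (sq : IsPullback q₁ i (W.ι ∣_ U) q₀) (hq₁ : FEt.prop q₁) :
    Hyp (W.ι ⁻¹ᵁ U) q₁ hq₁ := fun z hz => by
  rcases h (W.ι z) hz with hp | ⟨hd, Y', hY⟩
  · exact Or.inl (purityHolds_of_ringEquiv (asIso (W.ι.stalkMap z)).commRingCatIsoToRingEquiv hp)
  · refine Or.inr ⟨?_, (FEt.restrict (Spec.map (W.ι.stalkMap z))).obj Y', fun P a b hab => ?_⟩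
    · rwa [← ringKrullDim_eq_of_ringEquiv (asIso (W.ι.stalkMap z)).commRingCatIsoToRingEquiv]
    · have h' : (a ≫ (W.ι ∣_ U)) ≫ U.ι = (b ≫ Spec.map (W.ι.stalkMap z)) ≫ X.fromSpecStalk (W.ι z) := by
        rw [Category.assoc, morphismRestrict_ι, reassoc_of% hab, Category.assoc]
        exact congrArg (b ≫ ·) (Scheme.SpecMap_stalkMap_fromSpecStalk W.ι (x := z)).symm
      obtain ⟨e⟩ := hY P _ _ h'
      obtain ⟨e₁⟩ := nonempty_iso_of_isPullback (Y := MorphismProperty.Over.mk ⊤ q₀ hq₀)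
        (X := MorphismProperty.Over.mk ⊤ q₁ hq₁) (f := W.ι ∣_ U) sq.flip
      exact ⟨(restrictCompIso rfl).app Y' ≪≫ e ≪≫ (restrictCompIso rfl).symm.app _ ≪≫ (FEt.restrict a).mapIso e₁⟩

/-- Extension on Noetherian schemes. -/
theorem exists_extension [AlgebraicGeometry.IsNoetherian X] (U : X.Opens) (hd : Dense (U : Set X)) {E₀ : Scheme.{u}}
    (q₀ : E₀ ⟶ (U : Scheme.{u})) (hq₀ : FEt.prop q₀) (h : Hyp U q₀ hq₀) :
    ∃ (E : Scheme.{u}) (q : E ⟶ X) (i : E₀ ⟶ E), FEt.prop q ∧ IsPullback i q₀ q U.ι := by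
  let S : Set X.Opens := {V | ∃ (hUV : U ≤ V) (E : Scheme.{u}) (q : E ⟶ (V : Scheme.{u})) (i : E₀ ⟶ E),
    FEt.prop q ∧ IsPullback i q₀ q (X.homOfLE hUV)}
  have hS : S.Nonempty := ⟨U, le_rfl, E₀, q₀, 𝟙 _, hq₀, by
    rw [Scheme.homOfLE_rfl]; exact IsPullback.of_horiz_isIso ⟨by simp⟩⟩
  obtain ⟨V, ⟨hUV, E, q, i, hq, sq⟩, hmax⟩ := WellFounded.has_min (α := X.Opens) (wellFounded_gt : WellFounded ((· > ·) : X.Opens → X.Opens → Prop)) S hS
  by_cases htop : V = ⊤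
  · subst htop
    haveI : IsIso ((⊤ : X.Opens).ι) := inferInstanceAs (IsIso X.topIso.hom)
    refine ⟨E, q ≫ (⊤ : X.Opens).ι, i, MorphismProperty.comp_mem _ _ _ hq ⟨inferInstance, inferInstance⟩, ?_⟩
    have s2 : IsPullback (X.homOfLE hUV) (𝟙 _) (⊤ : X.Opens).ι U.ι := IsPullback.of_vert_isIso ⟨by simp⟩
    simpa using sq.paste_vert s2
  · exfalso
    obtain ⟨x, hxV, hx⟩ : ∃ x : X, x ∉ V ∧ ∀ y : X, y ∉ V → y ⤳ x → y = x := by
      obtain ⟨z, hz⟩ : ∃ z : X, z ∉ V := by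
        by_contra hc
        push_neg at hc
        exact htop (top_le_iff.1 fun y _ => hc y)
      obtain ⟨T, hT⟩ := exists_preirreducible ({⟨z, hz⟩} : Set ↥((V : Set X)ᶜ)) isPreirreducible_singleton
      have hTi : IsIrreducible T := ⟨⟨_, hT.2.1 rfl⟩, hT.1⟩
      have hTm : Maximal IsPreirreducible T := ⟨hT.1, fun T' h1 h2 => (hT.2.2 T' h1 h2).le⟩
      haveI : QuasiSober ↥((V : Set X)ᶜ) := V.isOpen.isClosed_compl.isClosedEmbedding_subtypeVal.quasiSober
      refine ⟨(hTi.genericPoint).1, (hTi.genericPoint).2, fun y hy hyx => ?_⟩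
      let y' : ↥((V : Set X)ᶜ) := ⟨y, hy⟩
      have hy' : y' ⤳ hTi.genericPoint := (subtype_specializes_iff _ _).2 hyx
      have hg : IsGenericPoint hTi.genericPoint (closure T) := hTi.isGenericPoint_genericPoint_closure (S := T)
      have hle : T ⊆ closure {y'} := by
        refine subset_closure.trans ?_
        rw [← hg.def]
        exact (isClosed_closure.closure_subset_iff).2 (Set.singleton_subset_iff.2 hy'.mem_closure)
      have hce : closure {y'} = T :=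
        hT.2.2 _ isPreirreducible_singleton.closure hle
      have hTc : closure T = T := hT.2.2 _ hT.1.closure subset_closure
      have hgy : IsGenericPoint y' T := hce
      rw [hTc] at hg
      exact congrArg Subtype.val (hgy.eq hg)
    have hxU : x ∉ U := fun hxU => hxV (hUV hxU)
    have hstep : ∀ ψ : (FEt.puncturedSpec (X.presheaf.stalk x) : Scheme.{u}) ⟶ (V : Scheme.{u}),
        ψ ≫ V.ι = (FEt.puncturedSpec (X.presheaf.stalk x)).ι ≫ X.fromSpecStalk x →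
        ∃ Y' : FEt.Cat (Spec (X.presheaf.stalk x)),
          Nonempty ((FEt.restrict (FEt.puncturedSpec (X.presheaf.stalk x)).ι).obj Y' ≅
            (FEt.restrict ψ).obj (MorphismProperty.Over.mk ⊤ q hq)) := fun ψ hψ => by
      rcases h x hxU with hp | ⟨hdim, Y', hY⟩
      · haveI : (FEt.restrict (FEt.puncturedSpec (X.presheaf.stalk x)).ι).EssSurj := hp
        exact Functor.EssSurj.mem_essImage _ _
      · let φ := X.fromSpecStalk x
        have hr : Set.range ((FEt.puncturedSpec (X.presheaf.stalk x)).ι ≫ φ) ⊆ Set.range U.ι := by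
          rintro _ ⟨w, rfl⟩
          rw [Scheme.Opens.range_ι, Scheme.Hom.comp_apply]
          obtain ⟨y, hy, hyw⟩ := ProperConnLib.exists_specializes_of_mem_closure_open U.isOpen
            (hd (φ ((FEt.puncturedSpec (X.presheaf.stalk x)).ι w)))
          let z : PrimeSpectrum (X.presheaf.stalk x) := (FEt.puncturedSpec (X.presheaf.stalk x)).ι w
          have hyx : y ⤳ x := hyw.trans (by
            have : φ z ∈ Set.range φ := ⟨z, rfl⟩
            rw [Scheme.range_fromSpecStalk] at this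
            exact this)
          obtain ⟨z', rfl⟩ : y ∈ Set.range φ := by rw [Scheme.range_fromSpecStalk]; exact hyx
          have hsp : z' ⤳ ((FEt.puncturedSpec (X.presheaf.stalk x)).ι w) := φ.isEmbedding.isInducing.specializes_iff.1 hyw
          have hle : PrimeSpectrum.asIdeal (R := X.presheaf.stalk x) z' ≤ z.asIdeal :=
            (PrimeSpectrum.le_iff_specializes (R := X.presheaf.stalk x) z' z).2 hsp
          have hw : z ≠ IsLocalRing.closedPoint (X.presheaf.stalk x) := w.2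
          have hzm : z.asIdeal ≠ IsLocalRing.maximalIdeal (X.presheaf.stalk x) := fun he => hw (PrimeSpectrum.ext he)
          haveI : Ring.KrullDimLE 1 (X.presheaf.stalk x) := (Ring.krullDimLE_iff).2 hdim
          have hmin : z.asIdeal ∈ minimalPrimes (X.presheaf.stalk x) :=
            (Ring.krullDimLE_one_iff.1 ‹_› z.asIdeal z.2).resolve_right fun hm => hzm (IsLocalRing.eq_maximalIdeal hm)
          have he : z' = (FEt.puncturedSpec (X.presheaf.stalk x)).ι w :=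
            PrimeSpectrum.ext (le_antisymm hle (hmin.2 ⟨PrimeSpectrum.isPrime (R := X.presheaf.stalk x) z', bot_le⟩ hle))
          rw [← he]
          exact hy
        let ψ₀ := IsOpenImmersion.lift U.ι ((FEt.puncturedSpec (X.presheaf.stalk x)).ι ≫ φ) hr
        have hψ₀ : ψ₀ ≫ U.ι = (FEt.puncturedSpec (X.presheaf.stalk x)).ι ≫ φ := IsOpenImmersion.lift_fac _ _ _
        obtain ⟨e⟩ := hY _ ψ₀ _ hψ₀
        have e' : ψ₀ ≫ X.homOfLE hUV = ψ := by
          rw [← cancel_mono V.ι, Category.assoc, X.homOfLE_ι, hψ₀, hψ]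
        obtain ⟨e₁⟩ := nonempty_iso_of_isPullback (Y := MorphismProperty.Over.mk ⊤ q hq)
          (X := MorphismProperty.Over.mk ⊤ q₀ hq₀) (f := X.homOfLE hUV) sq
        exact ⟨Y', ⟨e ≪≫ (FEt.restrict ψ₀).mapIso e₁.symm ≪≫ (restrictCompIso e').app _⟩⟩
    obtain ⟨V', hle, hxV', E', q', j, hq', sq'⟩ := exists_step V q hq x hxV hx hstep
    refine hmax V' ⟨hUV.trans hle, E', q', i ≫ j, hq', ?_⟩ (lt_of_le_of_ne hle fun hVV => hxV (hVV ▸ hxV'))
    rw [← Scheme.homOfLE_homOfLE _ hUV hle]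
    exact sq.paste_horiz sq'

variable {U : X.Opens} {E₀ : Scheme.{u}} {q₀ : E₀ ⟶ (U : Scheme.{u})}

theorem _root_.PurityGlueLib.IsHom.unique' [IsLocallyNoetherian X] (hU : DenseReg U) {W W' : X.Opens} {d : Datum q₀ W} {d' : Datum q₀ W'}
    {h₁ h₂ : d.Z ⟶ d'.Z} (H₁ : IsHom d d' h₁) (H₂ : IsHom d d' h₂) : h₁ = h₂ := by
  haveI : IsFinite d'.q := d'.hq.1
  haveI : Etale d'.q := d'.hq.2
  haveI : Etale d.q := d.hq.2
  haveI : IsLocallyNoetherian d.Z := LocallyOfFiniteType.isLocallyNoetherian (d.q ≫ W.ι)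
  obtain ⟨e₁, v₁, hv₁, hv₁'⟩ := H₁
  obtain ⟨e₂, v₂, hv₂, hv₂'⟩ := H₂
  have hv : v₁ = v₂ := (cancel_mono d'.k).1 (hv₁'.trans hv₂'.symm)
  have hg : (v₁ ≫ d'.inc) ≫ d'.q = d.inc ≫ h₁ ≫ d'.q := by rw [hv₁, Category.assoc]
  refine (existsUnique_hom d'.q (hU.preimage (d.q ≫ W.ι)) (h₁ ≫ d'.q) _ hg).unique ⟨hv₁.symm, rfl⟩
    ⟨by rw [hv, hv₂], ?_⟩
  rw [← cancel_mono W'.ι, Category.assoc, Category.assoc, e₁, e₂]

theorem exists_isHom' [IsLocallyNoetherian X] (hU : DenseReg U) {W W' : X.Opens} (hW : W ≤ W') (d : Datum q₀ W)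
    (d' : Datum q₀ W') : ∃ h, IsHom d d' h := by
  haveI : IsFinite d'.q := d'.hq.1
  haveI : Etale d'.q := d'.hq.2
  haveI : Etale d.q := d.hq.2
  haveI : IsLocallyNoetherian d.Z := LocallyOfFiniteType.isLocallyNoetherian (d.q ≫ W.ι)
  have hr : Set.range d.k ⊆ Set.range d'.k := fun e he => (d'.mem_range e).2 (hW ((d.mem_range e).1 he))
  let v := IsOpenImmersion.lift d'.k d.k hr
  have hv : v ≫ d'.k = d.k := IsOpenImmersion.lift_fac _ _ _
  have hg : (v ≫ d'.inc) ≫ d'.q = d.inc ≫ d.q ≫ X.homOfLE hW := by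
    rw [← cancel_mono W'.ι]
    simp only [Category.assoc, X.homOfLE_ι]
    rw [← d'.hk, reassoc_of% hv, d.hk]
  obtain ⟨G, ⟨hG, hGq⟩, -⟩ := existsUnique_hom d'.q (hU.preimage (d.q ≫ W.ι)) (d.q ≫ X.homOfLE hW) (v ≫ d'.inc) hg
  exact ⟨G, by rw [← Category.assoc, hGq, Category.assoc, X.homOfLE_ι], v, hG.symm, hv⟩

theorem _root_.PurityGlueLib.IsHom.isPullback' [IsLocallyNoetherian X] (hU : DenseReg U) {W W' : X.Opens} (hW : W ≤ W') {d : Datum q₀ W} {d' : Datum q₀ W'} {h : d.Z ⟶ d'.Z}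
    (H : IsHom d d' h) : IsPullback h d.q d'.q (X.homOfLE hW) := by
  obtain ⟨e, j, hj, sq⟩ := d'.exists_restriction hW
  obtain ⟨a, ha⟩ := exists_isHom' hU le_rfl d e
  obtain ⟨b, hb⟩ := exists_isHom' hU le_rfl e d
  let i : d.Z ≅ e.Z := ⟨a, b, (ha.comp hb).unique' hU (IsHom.id d), (hb.comp ha).unique' hU (IsHom.id e)⟩
  have h₁ : h = a ≫ j := H.unique' hU (ha.comp hj)
  have h₂ : a ≫ e.q = d.q := by
    rw [← cancel_mono W.ι, Category.assoc]
    exact ha.1
  exact sq.of_iso i.symm (Iso.refl _) (Iso.refl _) (Iso.refl _) (by simp [i, h₁, ← Category.assoc, (hb.comp ha).unique' hU (IsHom.id e)])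
    (by simp [i, ← h₂, ← Category.assoc, (hb.comp ha).unique' hU (IsHom.id e)]) (by simp) (by simp)

theorem exists_datum [IsLocallyNoetherian X] (hq₀ : FEt.prop q₀)
    (hU : DenseReg U) (h : Hyp U q₀ hq₀) {W : X.Opens} (hW : IsAffineOpen W) :
    Nonempty (Datum q₀ W) := by
  haveI : IsAffine (W : Scheme.{u}) := hW
  haveI : IsLocallyNoetherian (W : Scheme.{u}) := LocallyOfFiniteType.isLocallyNoetherian W.ι
  haveI : AlgebraicGeometry.IsNoetherian (W : Scheme.{u}) := ⟨⟩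
  let UW : (W : Scheme.{u}).Opens := W.ι ⁻¹ᵁ U
  let P : E₀.Opens := (q₀ ≫ U.ι) ⁻¹ᵁ W
  let qW : (P : Scheme.{u}) ⟶ (W : Scheme.{u}) := (q₀ ≫ U.ι).resLE W P le_rfl
  have hqW : qW ≫ W.ι = P.ι ≫ q₀ ≫ U.ι := Scheme.Hom.resLE_comp_ι _ _
  let q₁ : (P : Scheme.{u}) ⟶ (UW : Scheme.{u}) := IsOpenImmersion.lift UW.ι qW (by
    rintro _ ⟨z, rfl⟩
    rw [Scheme.Opens.range_ι]
    show (qW ≫ W.ι) z ∈ U
    rw [hqW]
    exact (q₀ (P.ι z)).2)
  have hq₁ : q₁ ≫ UW.ι = qW := IsOpenImmersion.lift_fac _ _ _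
  have sq₁ : IsPullback q₁ P.ι (W.ι ∣_ U) q₀ :=
    IsOpenImmersion.isPullback q₁ P.ι (W.ι ∣_ U) q₀
      (by rw [← cancel_mono U.ι, Category.assoc, Category.assoc, morphismRestrict_ι, reassoc_of% hq₁, hqW]) (by
      ext z
      show q₀ z ∈ Set.range (W.ι ∣_ U) ↔ z ∈ Set.range P.ι
      rw [Scheme.Opens.range_ι]
      constructor
      · rintro ⟨w, hw⟩
        show U.ι (q₀ z) ∈ W
        rw [← hw, ← Scheme.Hom.comp_apply, morphismRestrict_ι]
        exact (UW.ι w).2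
      · intro hz
        refine ⟨⟨⟨(q₀ ≫ U.ι) z, hz⟩, (q₀ z).2⟩, U.ι.isEmbedding.injective ?_⟩
        rw [← Scheme.Hom.comp_apply, morphismRestrict_ι]
        rfl)
  obtain ⟨E, q, i, hq, sq⟩ := exists_extension UW (hU.preimage W.ι).1 q₁
    (MorphismProperty.of_isPullback sq₁.flip hq₀) (h.restrict W sq₁ _)
  haveI : IsOpenImmersion i := MorphismProperty.of_isPullback sq.flip (inferInstanceAs (IsOpenImmersion UW.ι))
  let V : E.Opens := (q ≫ W.ι) ⁻¹ᵁ U
  have hr : Set.range V.ι = Set.range i := by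
    rw [Scheme.Opens.range_ι, range_fst_eq sq, Scheme.Opens.range_ι]
    rfl
  let χ := IsOpenImmersion.isoOfRangeEq V.ι i hr
  have hχ : χ.hom ≫ i = V.ι := IsOpenImmersion.isoOfRangeEq_hom_fac _ _ _
  refine ⟨⟨E, q, hq, χ.hom ≫ P.ι, inferInstance, ?_, fun e => ?_⟩⟩
  · rw [Category.assoc, ← hqW, ← hq₁, Category.assoc, ← sq.w_assoc, reassoc_of% hχ]
  · rw [show Set.range (χ.hom ≫ P.ι) = Set.range P.ι from by
      rw [Scheme.Hom.comp_base, TopCat.coe_comp, Set.range_comp, Set.range_eq_univ.2 χ.hom.surjective, Set.image_univ],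
      Scheme.Opens.range_ι]
    rfl

/-- **Extension on locally Noetherian schemes.** -/
theorem exists_extension_global [IsLocallyNoetherian X] (hq₀ : FEt.prop q₀) (hU : DenseReg U) (h : Hyp U q₀ hq₀) :
    ∃ (E : Scheme.{u}) (q : E ⟶ X) (i : E₀ ⟶ E), FEt.prop q ∧ IsPullback i q₀ q U.ι := by
  have hdat : ∀ W : X.affineOpens, Nonempty (Datum q₀ W.1) := fun W => exists_datum hq₀ hU h W.2
  let D : ∀ W : X.affineOpens, Datum q₀ W.1 := fun W => (hdat W).some
  have hhom : ∀ {W W' : X.affineOpens}, W ≤ W' → ∃ m, IsHom (D W) (D W') m := fun hW => exists_isHom' hU hW _ _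
  choose m hm using @hhom
  let F : X.directedAffineCover.I₀ ⥤ Scheme.{u} :=
    { obj := fun W => (D W).Z
      map := fun {W W'} f => m (leOfHom f)
      map_id := fun W => (hm _).unique' hU (IsHom.id _)
      map_comp := fun f g => (hm _).unique' hU ((hm _).comp (hm _)) }
  let η : F ⟶ X.directedAffineCover.functorOfLocallyDirected :=
    { app := fun W => (D W).q
      naturality := fun W W' f => ((hm (leOfHom f)).isPullback' hU (leOfHom f)).w }
  obtain ⟨E, q, ι', hq, hsq', hw'⟩ := exists_glued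
    { functor := F, natTrans := η, equifibered := fun W W' f => (hm (leOfHom f)).isPullback' hU (leOfHom f) }
    fun W => (D W).hq
  let ιW : ∀ W : X.affineOpens, (D W).Z ⟶ E := ι'
  have hsq : ∀ W : X.affineOpens, IsPullback (ιW W) (D W).q q W.1.ι := hsq'
  have hι : ∀ W, ιW W ≫ q = (D W).q ≫ W.1.ι := fun W => (hsq W).w
  have hw : ∀ {W W' : X.affineOpens} (hW : W ≤ W'), m hW ≫ ιW W' = ιW W := fun {W W'} hW =>
    hw' W W' (homOfLE hW)
  have hιoi : ∀ W : X.affineOpens, IsOpenImmersion (ιW W) := fun W =>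
    MorphismProperty.of_isPullback (hsq W).flip (inferInstanceAs (IsOpenImmersion W.1.ι))
  have hrι : ∀ W : X.affineOpens, Set.range (ιW W) = q ⁻¹' (W.1 : Set X) := fun W => by
    rw [range_fst_eq (hsq W), Scheme.Opens.range_ι]
  let f₀ : E₀ ⟶ X := q₀ ≫ U.ι
  let 𝒱 := X.directedAffineCover.pullback₁ f₀
  have hr : ∀ W : X.affineOpens, Set.range (pullback.fst f₀ W.1.ι) ⊆ Set.range (D W).k := by
    rintro W _ ⟨z, rfl⟩
    rw [(D W).mem_range, ← Scheme.Hom.comp_apply, pullback.condition]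
    exact (pullback.snd f₀ W.1.ι z).2
  let l := fun W : X.affineOpens => IsOpenImmersion.lift (D W).k (pullback.fst f₀ W.1.ι) (hr W)
  have hl : ∀ W, l W ≫ (D W).k = pullback.fst f₀ W.1.ι := fun W => IsOpenImmersion.lift_fac _ _ _
  let g := fun W : X.affineOpens => l W ≫ (D W).inc ≫ ιW W
  have hgc : ∀ (W W' : X.affineOpens) (t : pullback f₀ W.1.ι ⟶ pullback f₀ W'.1.ι),
      t ≫ pullback.fst f₀ W'.1.ι = pullback.fst f₀ W.1.ι → W ≤ W' → t ≫ g W' = g W := fun W W' t ht hle => by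
    obtain ⟨e, v, hv, hv'⟩ := hm hle
    have h2 : t ≫ l W' = l W ≫ v := by
      rw [← cancel_mono (D W').k]
      simp only [Category.assoc, hl, hv', ht]
    show t ≫ l W' ≫ (D W').inc ≫ ιW W' = l W ≫ (D W).inc ≫ ιW W
    rw [reassoc_of% h2, reassoc_of% hv, hw]
  let i : E₀ ⟶ E := Scheme.OpenCover.glueMorphismsOfLocallyDirected 𝒱 g (fun {W W'} f =>
    hgc W W' (Scheme.Cover.trans 𝒱 f) (Scheme.Cover.trans_map 𝒱 f) f.down.down)
  have hi : ∀ W : X.affineOpens, pullback.fst f₀ W.1.ι ≫ i = g W := fun W =>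
    Scheme.OpenCover.map_glueMorphismsOfLocallyDirected 𝒱 _ _ W
  have hiq : i ≫ q = q₀ ≫ U.ι := Scheme.Cover.hom_ext 𝒱 _ _ fun W => by
    show pullback.fst f₀ (W : X.affineOpens).1.ι ≫ i ≫ q = pullback.fst f₀ (W : X.affineOpens).1.ι ≫ f₀
    rw [reassoc_of% (hi W)]
    simp only [g, Category.assoc, hι]
    rw [← (D W).hk, reassoc_of% (hl W)]
  have hki : ∀ W : X.affineOpens, (D W).k ≫ i = (D W).inc ≫ ιW W := fun W => by
    let k' := pullback.lift (D W).k ((D W).inc ≫ (D W).q) ((D W).hk.trans (Category.assoc _ _ _).symm) (f := f₀)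
    have h1 : k' ≫ pullback.fst f₀ W.1.ι = (D W).k := pullback.lift_fst _ _ _
    have h2 : k' ≫ l W = 𝟙 _ := by rw [← cancel_mono (D W).k, Category.assoc, hl, h1, Category.id_comp]
    rw [← h1, Category.assoc, hi]
    show k' ≫ l W ≫ (D W).inc ≫ ιW W = _
    rw [reassoc_of% h2]
  let 𝒰 : E.OpenCover := E.openCoverOfIsOpenCover (fun W : X.affineOpens => q ⁻¹ᵁ W.1)
    (IsOpenCover.mk (by rw [← Scheme.Hom.preimage_iSup, iSup_affineOpens_eq_top, Scheme.Hom.preimage_top]))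
  haveI : IsOpenImmersion i := by
    refine IsZariskiLocalAtTarget.of_openCover (P := @IsOpenImmersion) 𝒰 fun W => ?_
    haveI := hιoi W
    have hrW : Set.range (q ⁻¹ᵁ (W : X.affineOpens).1).ι = Set.range (ιW W) := by
      rw [Scheme.Opens.range_ι, hrι]; rfl
    let χ := IsOpenImmersion.isoOfRangeEq (q ⁻¹ᵁ (W : X.affineOpens).1).ι (ιW W) hrW
    have sq : IsPullback (D W).inc (D W).k (ιW W) i :=
      IsOpenImmersion.isPullback (D W).inc (D W).k (ιW W) i (hki W) (by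
        refine SetLike.coe_injective ?_
        show i ⁻¹' Set.range (ιW W) = Set.range (D W).k
        ext e
        rw [(D W).mem_range, ← hiq, hrι]
        rfl)
    have sq' : IsPullback (D W).k ((D W).inc ≫ χ.inv) i (q ⁻¹ᵁ (W : X.affineOpens).1).ι :=
      sq.flip.of_iso (Iso.refl _) (Iso.refl _) χ.symm (Iso.refl _) (by simp) (by simp) (by simp)
        (by simp [χ])
    show IsOpenImmersion (pullback.snd i (q ⁻¹ᵁ (W : X.affineOpens).1).ι)
    rw [← sq'.isoPullback_inv_snd]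
    exact (MorphismProperty.cancel_left_of_respectsIso @IsOpenImmersion _ _).2 inferInstance
  refine ⟨_, q, i, hq, (IsOpenImmersion.isPullback q₀ i U.ι q hiq ?_).flip⟩
  refine le_antisymm (fun z hz => ?_) ?_
  · obtain ⟨W, hWz⟩ : ∃ W : X.affineOpens, q z ∈ W.1 := by
      obtain ⟨W, hW, hzW, -⟩ := exists_isAffineOpen_mem_and_subset (x := q z) (U := ⊤) trivial
      exact ⟨⟨W, hW⟩, hzW⟩
    obtain ⟨y, rfl⟩ : z ∈ Set.range (ιW W) := (hrι W).ge hWz
    have hy : ((D W).q ≫ W.1.ι) y ∈ U := by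
      rw [← hι, Scheme.Hom.comp_apply]
      rw [← SetLike.mem_coe, ← Scheme.Opens.range_ι U]
      exact hz
    exact ⟨(D W).k ⟨y, hy⟩, by rw [← Scheme.Hom.comp_apply, hki]; rfl⟩
  · rintro _ ⟨e, rfl⟩
    show q (i e) ∈ U.ι.opensRange
    rw [← Scheme.Hom.comp_apply, hiq]
    exact ⟨q₀ e, rfl⟩

end FEtExt
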