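import Groth.Agent.FEtExtLib.Extend
import Groth.Agent.WeilExtLib.Codim
import Groth.Agent.S0247

/-! # Extension over regular points -/

set_option autoImplicit false
set_option linter.style.haveILetI false
set_option backward.isDefEq.respectTransparency false
set_option backward.isDefEq.respectTransparency.types false
set_option maxHeartbeats 1000000

universe u

open CategoryTheory CategoryTheory.Limits AlgebraicGeometry

noncomputable section

namespace FEtExt

theorem hyp_of_regular {X : Scheme.{u}} [IsLocallyNoetherian X] {U : X.Opens} (hU : DenseReg U) {E₀ : Scheme.{u}}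
    {q₀ : E₀ ⟶ (U : Scheme.{u})} {hq₀ : FEt.prop q₀}
    (h : ∀ x : X, x ∉ U → ringKrullDim (X.presheaf.stalk x) = 1 → ExtAt U q₀ hq₀ x) : Hyp U q₀ hq₀ := fun x hx => by
  haveI := hU.2 x hx
  have hd := IsRegularLocalRing.spanFinrank_maximalIdeal (R := X.presheaf.stalk x)
  obtain ⟨n, hn⟩ : ∃ n : ℕ, ringKrullDim (X.presheaf.stalk x) = n := ⟨_, hd.symm⟩
  match n, hn with
  | 0, hn =>
    exfalso
    obtain ⟨z, hz, hzx⟩ := hU.exists_specializes x
    have hle : Ring.KrullDimLE 0 (X.presheaf.stalk x) := (Ring.krullDimLE_iff).2 (le_of_eq hn)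
    obtain ⟨a, rfl⟩ : z ∈ Set.range (X.fromSpecStalk x) := by rw [Scheme.range_fromSpecStalk]; exact hzx
    have ha : a = IsLocalRing.closedPoint (X.presheaf.stalk x) :=
      PrimeSpectrum.ext (IsLocalRing.eq_maximalIdeal ((PrimeSpectrum.isPrime (R := X.presheaf.stalk x) a).isMaximal'))
    rw [ha, Scheme.fromSpecStalk_closedPoint] at hz
    exact hx hz
  | 1, hn => exact Or.inr ⟨le_of_eq hn, h x hx (by simpa using hn)⟩
  | m + 2, hn =>
    refine Or.inl (Groth.Agent.S0247.result _ ?_)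
    rw [hn]
    exact_mod_cast Nat.le_add_left 2 m

/-- Covers extend from a dense open with regular complement once they extend at points of codimension one. -/
theorem exists_cover_extension {X : Scheme.{u}} [IsLocallyNoetherian X] {U : X.Opens} (hU : DenseReg U)
    (Y : FEt.Cat (U : Scheme.{u}))
    (h : ∀ x : X, x ∉ U → ringKrullDim (X.presheaf.stalk x) = 1 → ExtAt U Y.hom Y.prop x) :
    ∃ Y' : FEt.Cat X, Nonempty ((FEt.restrict U.ι).obj Y' ≅ Y) := by
  obtain ⟨E, q, i, hq, sq⟩ := exists_extension_global (q₀ := Y.hom) Y.prop hU (hyp_of_regular hU h)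
  exact ⟨MorphismProperty.Over.mk ⊤ q hq, PurityGlueLib.nonempty_iso_of_isPullback sq⟩

variable {X Y S : Scheme.{u}}

/-- Extension of the generic point of a discrete valuation ring into a proper scheme. -/
theorem exists_lift_dvr (pX : X ⟶ S) [IsProper pX] (O : Type u) [CommRing O] [IsDomain O] [IsDiscreteValuationRing O]
    (P₀ : (Spec (CommRingCat.of O)).Opens) (hP : ∀ w : PrimeSpectrum O, w ∈ P₀ ↔ w.asIdeal = ⊥)
    (a₀ : (P₀ : Scheme.{u}) ⟶ X) (b₀ : Spec (CommRingCat.of O) ⟶ S) (hc : a₀ ≫ pX = P₀.ι ≫ b₀) :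
    ∃ s : Spec (CommRingCat.of O) ⟶ X, P₀.ι ≫ s = a₀ := by
  let K := FractionRing O
  obtain ⟨ϖ, hϖ⟩ := IsDiscreteValuationRing.exists_irreducible O
  haveI : IsLocalization.Away ϖ K := IsLocalization.Away.mk ϖ
    ((IsUnit.mk0 _ (by simpa using hϖ.ne_zero)))
    (fun z => by
      obtain ⟨⟨a, s⟩, hz⟩ := IsLocalization.surj (nonZeroDivisors O) z
      obtain ⟨m, w, hw⟩ := IsDiscreteValuationRing.eq_unit_mul_pow_irreducible (nonZeroDivisors.coe_ne_zero s) hϖ
      refine ⟨m, a * ↑w⁻¹, ?_⟩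
      rw [map_mul, ← hz, mul_assoc, ← map_mul, hw, mul_right_comm, Units.mul_inv, one_mul, map_pow])
    (fun a b h => ⟨0, by simpa using IsFractionRing.injective O K h⟩)
  let g : Spec (CommRingCat.of K) ⟶ Spec (CommRingCat.of O) := Spec.map (CommRingCat.ofHom (algebraMap O K))
  haveI : IsOpenImmersion g := IsOpenImmersion.of_isLocalization ϖ
  have hr : ∀ v : PrimeSpectrum K, PrimeSpectrum.asIdeal (R := O) (g v) = ⊥ := fun v => by
    show v.asIdeal.comap (algebraMap O K) = ⊥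
    rw [show v.asIdeal = ⊥ from Ideal.eq_bot_of_prime _]
    exact (RingHom.injective_iff_ker_eq_bot _).1 (IsFractionRing.injective O K)
  have hgr : Set.range g = Set.range P₀.ι := by
    rw [Scheme.Opens.range_ι]
    ext w
    refine ⟨?_, fun hw => ⟨(⟨⊥, Ideal.isPrime_bot⟩ : PrimeSpectrum K), PrimeSpectrum.ext ((hr _).trans ((hP w).1 hw).symm)⟩⟩
    rintro ⟨v, rfl⟩
    exact (hP _).2 (hr v)
  let χ := IsOpenImmersion.isoOfRangeEq g P₀.ι hgr
  have hχ : χ.hom ≫ P₀.ι = g := IsOpenImmersion.isoOfRangeEq_hom_fac _ _ _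
  have hex : ValuativeCriterion.Existence pX := by
    have h : (ValuativeCriterion.Existence ⊓ @QuasiCompact) pX := by
      rw [← UniversallyClosed.eq_valuativeCriterion]
      exact (inferInstance : UniversallyClosed pX)
    exact h.1
  obtain ⟨⟨⟨s, hs₁, hs₂⟩⟩⟩ := hex
    { R := O, K := K, i₁ := χ.hom ≫ a₀, i₂ := b₀, commSq := ⟨by rw [Category.assoc, hc, reassoc_of% hχ]⟩ }
  exact ⟨s, by rw [← cancel_epi χ.hom, reassoc_of% hχ]; exact hs₁⟩

/-- Covers coming from a proper scheme extend at regular points of codimension one. -/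
theorem extAt_of_proper (pX : X ⟶ S) [IsProper pX] (pY : Y ⟶ S) {V : Y.Opens} (hV : Dense (V : Set Y))
    [IsLocallyNoetherian Y] (h : (V : Scheme.{u}) ⟶ X) (hh : h ≫ pX = V.ι ≫ pY) (Z : FEt.Cat X) (y : Y) (hy : y ∉ V)
    (hreg : IsRegularLocalRing (Y.presheaf.stalk y)) (hdim : ringKrullDim (Y.presheaf.stalk y) = 1) :
    ExtAt V ((FEt.restrict h).obj Z).hom ((FEt.restrict h).obj Z).prop y := by
  haveI : IsDomain (Y.presheaf.stalk y) := CommAlgDim.isDomain_of_isRegularLocalRing _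
  have hf : ¬ IsField (Y.presheaf.stalk y) := fun hF => by
    rw [ringKrullDim_eq_zero_of_isField hF] at hdim
    exact zero_ne_one hdim
  haveI : IsDiscreteValuationRing (Y.presheaf.stalk y) := WeilExtLib.isDiscreteValuationRing_of_regular _ hdim.le hf
  let φ := Y.fromSpecStalk y
  let P₀ : (Spec (Y.presheaf.stalk y)).Opens := φ ⁻¹ᵁ V
  have hcl : ∀ w : PrimeSpectrum (Y.presheaf.stalk y), w ∈ P₀ → w.asIdeal = ⊥ := fun w hw => by
    by_contra hne
    have e : w = IsLocalRing.closedPoint (Y.presheaf.stalk y) :=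
      PrimeSpectrum.ext (IsLocalRing.eq_maximalIdeal (w.isPrime.isMaximal hne))
    rw [e] at hw
    have hw' : φ (IsLocalRing.closedPoint (Y.presheaf.stalk y)) ∈ V := hw
    rw [Scheme.fromSpecStalk_closedPoint] at hw'
    exact hy hw'
  have hP : ∀ w : PrimeSpectrum (Y.presheaf.stalk y), w ∈ P₀ ↔ w.asIdeal = ⊥ := fun w => by
    refine ⟨hcl w, fun hw => ?_⟩
    obtain ⟨z, hz, hzy⟩ := ProperConnLib.exists_specializes_of_mem_closure_open V.isOpen (hV y)
    obtain ⟨z', rfl⟩ : z ∈ Set.range φ := by rw [Scheme.range_fromSpecStalk]; exact hzy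
    rw [show w = z' from PrimeSpectrum.ext (hw.trans (hcl z' hz).symm)]
    exact hz
  let ρ : (P₀ : Scheme.{u}) ⟶ (V : Scheme.{u}) := φ.resLE V P₀ le_rfl
  have hρ : ρ ≫ V.ι = P₀.ι ≫ φ := Scheme.Hom.resLE_comp_ι _ _
  obtain ⟨s, hs⟩ := exists_lift_dvr pX (Y.presheaf.stalk y) P₀ hP (ρ ≫ h) (φ ≫ pY)
    (by rw [Category.assoc, hh, reassoc_of% hρ])
  refine ⟨(FEt.restrict s).obj Z, fun P a b hab => ?_⟩
  have hb : Set.range b ⊆ Set.range P₀.ι := by
    rw [Scheme.Opens.range_ι]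
    rintro _ ⟨p, rfl⟩
    show φ (b p) ∈ V
    rw [← Scheme.Hom.comp_apply, ← hab]
    exact (a p).2
  let b₀ := IsOpenImmersion.lift P₀.ι b hb
  have hb₀ : b₀ ≫ P₀.ι = b := IsOpenImmersion.lift_fac _ _ _
  have ha : b₀ ≫ ρ = a := by
    rw [← cancel_mono V.ι, Category.assoc, hρ, reassoc_of% hb₀, hab]
  have key : b ≫ s = a ≫ h := by
    rw [← hb₀, ← ha, Category.assoc, Category.assoc, hs]
  exact ⟨(restrictCompIso key).app Z ≪≫ (restrictCompIso rfl).symm.app Z⟩

/-- Covers extend from a dense open along a proper scheme. -/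
theorem exists_cover_of_proper (pX : X ⟶ S) [IsProper pX] (pY : Y ⟶ S) [IsLocallyNoetherian Y] {V : Y.Opens}
    (hV : DenseReg V) (h : (V : Scheme.{u}) ⟶ X) (hh : h ≫ pX = V.ι ≫ pY) (Z : FEt.Cat X) :
    ∃ Z' : FEt.Cat Y, Nonempty ((FEt.restrict V.ι).obj Z' ≅ (FEt.restrict h).obj Z) :=
  exists_cover_extension hV _ fun y hy hd => extAt_of_proper pX pY hV.1 h hh Z y hy (hV.2 y hy) hd

end FEtExt

end
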